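/-
Ext of a pseudo-coherent complex into `M / I^n M`: essentially constant systems.
-/
import Groth.Agent.Lib.DCxRing.ColimHom
import Mathlib.Algebra.Homology.DerivedCategory.Linear
import Mathlib.RingTheory.Filtration
import Mathlib.LinearAlgebra.FreeModule.Finite.Matrix
import Mathlib.Algebra.Module.Submodule.Pointwise

set_option autoImplicit false
universe u

open CategoryTheory CategoryTheory.Limits HomologicalComplex CochainComplex Pretriangulated

attribute [local instance] HasDerivedCategory.standard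

namespace GrothLib.ExtConst

open GrothLib.DR

variable {A : Type u} [CommRing A]

theorem toSingleD_add (C : DRing.Cx A) (n : ℤ) {M : Type u} [AddCommGroup M] [Module A M]
    (g g' : C.X n →ₗ[A] M) (hg : ∀ x, g ((C.d (n - 1) n).hom x) = 0)
    (hg' : ∀ x, g' ((C.d (n - 1) n).hom x) = 0) :
    toSingleD C n (g + g') (fun x => by rw [LinearMap.add_apply, hg, hg', add_zero]) =
      toSingleD C n g hg + toSingleD C n g' hg' := by
  rw [toSingleD, toSingleD, toSingleD, ← Preadditive.add_comp, ← Functor.map_add]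
  congr 2
  refine to_single_hom_ext ?_
  simp only [HomologicalComplex.add_f_apply, toSingleMap, mkHomToSingle_f, ← Preadditive.add_comp]
  rfl

theorem toSingleD_smul (C : DRing.Cx A) (n : ℤ) {M : Type u} [AddCommGroup M] [Module A M]
    (r : A) (g : C.X n →ₗ[A] M) (hg : ∀ x, g ((C.d (n - 1) n).hom x) = 0) :
    toSingleD C n (r • g) (fun x => by rw [LinearMap.smul_apply, hg, smul_zero]) =
      r • toSingleD C n g hg := by
  rw [toSingleD, toSingleD, ← Linear.smul_comp, ← Functor.map_smul]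
  congr 2
  refine to_single_hom_ext ?_
  simp only [HomologicalComplex.smul_f_apply, toSingleMap, mkHomToSingle_f, ← Linear.smul_comp]
  rfl

/-- Cocycles with values deep in the `I`-adic filtration give the zero class. -/
theorem exists_pow_toSingleD_eq_zero [IsNoetherianRing A] (I : Ideal A) (E : DRing.Cx A)
    [E.IsKProjective] (hE : DRing.TermwiseFiniteFree E) (n : ℤ) (N : Type u) [AddCommGroup N]
    [Module A N] [Module.Finite A N]
    (htors : ∀ e : DRing.toD E ⟶ (Dual.inD A N)⟦-n⟧, ∃ c : ℕ, ∀ x ∈ I ^ c, x • e = 0) :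
    ∃ k : ℕ, ∀ (g : E.X n →ₗ[A] N) (hg : ∀ x, g ((E.d (n - 1) n).hom x) = 0),
      (∀ x, g x ∈ I ^ k • (⊤ : Submodule A N)) → toSingleD E n g hg = 0 := by
  classical
  haveI := (hE n).1
  haveI := (hE n).2
  let Z : Submodule A (E.X n →ₗ[A] N) := LinearMap.ker (LinearMap.lcomp A N (E.d (n - 1) n).hom)
  have hZ : ∀ g ∈ Z, ∀ x, g ((E.d (n - 1) n).hom x) = 0 := fun g hg x => LinearMap.congr_fun hg x
  let Φ : Z →ₗ[A] (DRing.toD E ⟶ (Dual.inD A N)⟦-n⟧) :=
    { toFun := fun z => toSingleD E n z.1 (hZ _ z.2)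
      map_add' := fun z z' => toSingleD_add E n z.1 z'.1 _ _
      map_smul' := fun r z => toSingleD_smul E n r z.1 _ }
  haveI : IsNoetherian A (E.X n →ₗ[A] N) := isNoetherian_of_isNoetherianRing_of_finite A _
  obtain ⟨s, hs⟩ := (Module.Finite.fg_top : (⊤ : Submodule A Z).FG)
  choose c hc using htors
  let c' := s.sup fun z => c (Φ z)
  have hkill : ∀ z : Z, ∀ x ∈ I ^ c', x • Φ z = 0 := by
    intro z
    have hz : z ∈ Submodule.span A (s : Set Z) := by rw [hs]; trivial
    induction hz using Submodule.span_induction with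
    | mem z hz => exact fun x hx => hc _ x (Ideal.pow_le_pow_right (Finset.le_sup (f := fun z => c (Φ z)) hz) hx)
    | zero => exact fun x _ => by rw [map_zero, smul_zero]
    | add a b _ _ ha hb => exact fun x hx => by rw [map_add, smul_add, ha x hx, hb x hx, add_zero]
    | smul r a _ ha => exact fun x hx => by rw [map_smul, smul_comm, ha x hx, smul_zero]
  obtain ⟨k0, hk0⟩ := I.exists_pow_inf_eq_pow_smul Z
  refine ⟨k0 + c', fun g hg hval => ?_⟩
  have hgI : g ∈ I ^ (k0 + c') • (⊤ : Submodule A (E.X n →ₗ[A] N)) := by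
    let b := Module.Free.chooseBasis A (E.X n)
    rw [show g = ∑ i, LinearMap.smulRightₗ (b.coord i) (g (b i)) from b.ext fun j => by
      simp [LinearMap.smulRightₗ, Finsupp.single_apply, eq_comm]]
    refine Submodule.sum_mem _ fun i _ => ?_
    have h1 := Submodule.mem_map_of_mem (f := (LinearMap.smulRightₗ (b.coord i) : N →ₗ[A] E.X n →ₗ[A] N)) (hval (b i))
    rw [Submodule.map_smul''] at h1
    exact Submodule.smul_mono le_rfl le_top h1
  have h2 : g ∈ I ^ (k0 + c') • (⊤ : Submodule A (E.X n →ₗ[A] N)) ⊓ Z :=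
    ⟨hgI, LinearMap.ext hg⟩
  rw [hk0 (k0 + c') (Nat.le_add_right _ _), Nat.add_sub_cancel_left] at h2
  have h3 : ∀ y ∈ I ^ c' • Z, ∀ hy : y ∈ Z, Φ ⟨y, hy⟩ = 0 := by
    intro y hy hyZ
    suffices ∃ hy' : y ∈ Z, Φ ⟨y, hy'⟩ = 0 from this.2
    refine Submodule.smul_induction_on hy (fun r hr y hy => ⟨Z.smul_mem r hy, ?_⟩) (fun a b ha hb => ?_)
    · rw [show (⟨r • y, Z.smul_mem r hy⟩ : Z) = r • ⟨y, hy⟩ from rfl, map_smul, hkill _ r hr]
    · obtain ⟨ha', ha''⟩ := ha
      obtain ⟨hb', hb''⟩ := hb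
      refine ⟨Z.add_mem ha' hb', ?_⟩
      rw [show (⟨a + b, Z.add_mem ha' hb'⟩ : Z) = ⟨a, ha'⟩ + ⟨b, hb'⟩ from rfl, map_add, ha'', hb'',
        add_zero]
  exact h3 g (Submodule.smul_mono le_rfl inf_le_right h2) (LinearMap.ext hg)

/-- A linear map into a quotient lifts from a projective module. -/
theorem exists_lift_mkQ {P M : Type u} [AddCommGroup P] [Module A P] [Module.Projective A P]
    [AddCommGroup M] [Module A M] (S : Submodule A M) (w : P →ₗ[A] M ⧸ S) :
    ∃ w' : P →ₗ[A] M, S.mkQ.comp w' = w :=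
  Module.projective_lifting_property S.mkQ w S.mkQ_surjective

/-- The essentially constant system. -/
theorem essentially_constant [IsNoetherianRing A] (I : Ideal A) (E : DRing.Cx A) [E.IsKProjective]
    (hE : DRing.TermwiseFiniteFree E) (a : ℤ)
    (htors : ∀ (M : Type u) [AddCommGroup M] [Module A M], Module.Finite A M → ∀ n : ℤ, a ≤ -n →
      ∀ e : DRing.toD E ⟶ (Dual.inD A M)⟦-n⟧, ∃ c : ℕ, ∀ x ∈ I ^ c, x • e = 0)
    (M : Type u) [AddCommGroup M] [Module A M] [Module.Finite A M] (n : ℤ) (hn : a ≤ -n) :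
    (∃ m : ℕ, ∀ e : DRing.toD E ⟶ (Dual.inD A M)⟦-n⟧,
      e ≫ ((DerivedCategory.singleFunctor (ModuleCat.{u} A) 0).map
        (ModuleCat.ofHom (I ^ m • ⊤ : Submodule A M).mkQ))⟦-n⟧' = 0 → e = 0) ∧
    ∀ p : ℕ, ∃ (m : ℕ) (hpm : p ≤ m), ∀ e : DRing.toD E ⟶ (Dual.inD A (M ⧸ (I ^ m • ⊤ : Submodule A M)))⟦-n⟧,
      ∃ e' : DRing.toD E ⟶ (Dual.inD A M)⟦-n⟧,
        e' ≫ ((DerivedCategory.singleFunctor (ModuleCat.{u} A) 0).map
          (ModuleCat.ofHom (I ^ p • ⊤ : Submodule A M).mkQ))⟦-n⟧' =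
        e ≫ ((DerivedCategory.singleFunctor (ModuleCat.{u} A) 0).map
          (ModuleCat.ofHom (Submodule.mapQ (I ^ m • ⊤ : Submodule A M) (I ^ p • ⊤ : Submodule A M)
            (LinearMap.id : M →ₗ[A] M)
            (Submodule.smul_mono_left (Ideal.pow_le_pow_right hpm)))))⟦-n⟧' := by
  classical
  have hproj : ∀ i, Module.Projective A (E.X i) := fun i => projective_of_finiteFree hE i
  constructor
  · obtain ⟨k, hk⟩ := exists_pow_toSingleD_eq_zero I E hE n M (htors M inferInstance n hn)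
    refine ⟨k, fun e he => ?_⟩
    obtain ⟨g, hg, rfl⟩ := exists_toSingleD E n e
    rw [toSingleD_comp, toSingleD_eq_zero_iff] at he
    obtain ⟨w, hw⟩ := he
    haveI := hproj (n + 1)
    obtain ⟨w', hw'⟩ := exists_lift_mkQ _ w
    have hdd : ∀ x, (E.d n (n + 1)).hom ((E.d (n - 1) n).hom x) = 0 := fun x =>
      ConcreteCategory.congr_hom (E.d_comp_d (n - 1) n (n + 1)) x
    let g1 : E.X n →ₗ[A] M := w'.comp (E.d n (n + 1)).hom
    have hg1 : ∀ x, g1 ((E.d (n - 1) n).hom x) = 0 := fun x => by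
      simp only [g1, LinearMap.comp_apply, hdd, map_zero]
    have hsub : ∀ x, (g - g1) x ∈ I ^ k • (⊤ : Submodule A M) := fun x => by
      rw [← Submodule.Quotient.mk_eq_zero]
      have h1 := hw x
      rw [← hw'] at h1
      simp only [LinearMap.comp_apply, Submodule.mkQ_apply] at h1
      rw [LinearMap.sub_apply, Submodule.Quotient.mk_sub, ← h1]
      exact sub_self _
    have hz := hk (g - g1) (fun x => by rw [LinearMap.sub_apply, hg, hg1, sub_zero]) hsub
    have hadd := toSingleD_add E n (g - g1) g1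
      (fun x => by rw [LinearMap.sub_apply, hg, hg1, sub_zero]) hg1
    simp only [sub_add_cancel] at hadd
    rw [hadd, hz, zero_add, toSingleD_eq_zero_iff]
    exact ⟨w', fun x => rfl⟩
  · intro p
    let N : Submodule A M := I ^ p • ⊤
    haveI : Module.Finite A N := Module.Finite.of_fg (IsNoetherian.noetherian N)
    obtain ⟨q, rfl⟩ : ∃ q, n = q + 1 := ⟨n - 1, by omega⟩
    obtain ⟨k, hk⟩ := exists_pow_toSingleD_eq_zero I E hE q N (htors N inferInstance q (by omega))
    have hpk : p ≤ p + k := Nat.le_add_right _ _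
    refine ⟨p + k, hpk, fun e => ?_⟩
    obtain ⟨g, hg, rfl⟩ := exists_toSingleD E (q + 1) e
    have hgq : ∀ x, g ((E.d q (q + 1)).hom x) = 0 := by
      have h1 : ∀ i, i = q + 1 - 1 → ∀ x, g ((E.d i (q + 1)).hom x) = 0 := by
        rintro i rfl
        exact hg
      exact h1 q (by omega)
    haveI := hproj (q + 1)
    obtain ⟨z, hz⟩ := exists_lift_mkQ _ g
    have hval : ∀ x, z ((E.d q (q + 1)).hom x) ∈ I ^ (p + k) • (⊤ : Submodule A M) := fun x => by
      rw [← Submodule.Quotient.mk_eq_zero]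
      have h1 := hgq x
      rwa [← hz] at h1
    let g' : E.X q →ₗ[A] N := (z.comp (E.d q (q + 1)).hom).codRestrict N fun x =>
      Submodule.smul_mono_left (Ideal.pow_le_pow_right hpk) (hval x)
    have hg' : ∀ x, g' ((E.d (q - 1) q).hom x) = 0 := fun x => Subtype.ext (by
      change z ((E.d q (q + 1)).hom ((E.d (q - 1) q).hom x)) = 0
      rw [show (E.d q (q + 1)).hom ((E.d (q - 1) q).hom x) = 0 from
        ConcreteCategory.congr_hom (E.d_comp_d (q - 1) q (q + 1)) x, map_zero])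
    have hdeep : ∀ x, g' x ∈ I ^ k • (⊤ : Submodule A N) := fun x => by
      rw [Submodule.mem_smul_top_iff]
      change z ((E.d q (q + 1)).hom x) ∈ I ^ k • (I ^ p • (⊤ : Submodule A M))
      rw [← Submodule.mul_smul, ← pow_add, add_comm k p]
      exact hval x
    obtain ⟨w, hw⟩ := (toSingleD_eq_zero_iff E q g' hg').1 (hk g' hg' hdeep)
    let z1 : E.X (q + 1) →ₗ[A] M := z - N.subtype.comp w
    have hz1 : ∀ x, z1 ((E.d (q + 1 - 1) (q + 1)).hom x) = 0 := by
      have h1 : ∀ i, i = q → ∀ x, z1 ((E.d i (q + 1)).hom x) = 0 := by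
        rintro i rfl x
        simp only [z1, LinearMap.sub_apply, LinearMap.comp_apply, hw, Submodule.subtype_apply]
        exact sub_self _
      exact h1 _ (by omega)
    refine ⟨toSingleD E (q + 1) z1 hz1, ?_⟩
    rw [toSingleD_comp, toSingleD_comp]
    congr 1
    refine LinearMap.ext fun x => ?_
    rw [← hz]
    simp only [LinearMap.comp_apply, z1, LinearMap.sub_apply, Submodule.subtype_apply, map_sub,
      Submodule.mkQ_apply, Submodule.mapQ_apply, LinearMap.id_apply]
    rw [(Submodule.Quotient.mk_eq_zero (I ^ p • ⊤ : Submodule A M)).2 (w x).2, sub_zero]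

end GrothLib.ExtConst

namespace GrothLib.ExtConst

open GrothLib.DR

variable {A : Type u} [CommRing A]

/-- Classes of cocycles with values in `I^m N` lie in `I^(m-c) Ext`. -/
theorem exists_toSingleD_mem_pow_smul [IsNoetherianRing A] (I : Ideal A) (E : DRing.Cx A)
    [E.IsKProjective] (hE : DRing.TermwiseFiniteFree E) (n : ℤ) (N : Type u) [AddCommGroup N]
    [Module A N] [Module.Finite A N] :
    ∃ c : ℕ, ∀ m, c ≤ m → ∀ (g : E.X n →ₗ[A] N) (hg : ∀ x, g ((E.d (n - 1) n).hom x) = 0),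
      (∀ x, g x ∈ I ^ m • (⊤ : Submodule A N)) →
        toSingleD E n g hg ∈ (I ^ (m - c) • ⊤ : Submodule A (DRing.toD E ⟶ (Dual.inD A N)⟦-n⟧)) := by
  classical
  haveI := (hE n).1
  haveI := (hE n).2
  let Z : Submodule A (E.X n →ₗ[A] N) := LinearMap.ker (LinearMap.lcomp A N (E.d (n - 1) n).hom)
  have hZ : ∀ g ∈ Z, ∀ x, g ((E.d (n - 1) n).hom x) = 0 := fun g hg x => LinearMap.congr_fun hg x
  let Φ : Z →ₗ[A] (DRing.toD E ⟶ (Dual.inD A N)⟦-n⟧) :=
    { toFun := fun z => toSingleD E n z.1 (hZ _ z.2)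
      map_add' := fun z z' => toSingleD_add E n z.1 z'.1 _ _
      map_smul' := fun r z => toSingleD_smul E n r z.1 _ }
  haveI : IsNoetherian A (E.X n →ₗ[A] N) := isNoetherian_of_isNoetherianRing_of_finite A _
  obtain ⟨k0, hk0⟩ := I.exists_pow_inf_eq_pow_smul Z
  refine ⟨k0, fun m hm g hg hval => ?_⟩
  have hgI : g ∈ I ^ m • (⊤ : Submodule A (E.X n →ₗ[A] N)) := by
    let b := Module.Free.chooseBasis A (E.X n)
    rw [show g = ∑ i, LinearMap.smulRightₗ (b.coord i) (g (b i)) from b.ext fun j => by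
      simp [LinearMap.smulRightₗ, Finsupp.single_apply]]
    refine Submodule.sum_mem _ fun i _ => ?_
    have h1 := Submodule.mem_map_of_mem
      (f := (LinearMap.smulRightₗ (b.coord i) : N →ₗ[A] E.X n →ₗ[A] N)) (hval (b i))
    rw [Submodule.map_smul''] at h1
    exact Submodule.smul_mono le_rfl le_top h1
  have h2 : g ∈ I ^ m • (⊤ : Submodule A (E.X n →ₗ[A] N)) ⊓ Z := ⟨hgI, LinearMap.ext hg⟩
  rw [hk0 m hm] at h2
  have h3 : g ∈ Submodule.map Z.subtype (I ^ (m - k0) • (⊤ : Submodule A Z)) := by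
    rw [Submodule.map_smul'', Submodule.map_top, Submodule.range_subtype]
    exact Submodule.smul_mono le_rfl inf_le_right h2
  obtain ⟨z, hz, rfl⟩ := h3
  have h4 := Submodule.mem_map_of_mem (f := Φ) hz
  rw [Submodule.map_smul''] at h4
  exact Submodule.smul_mono le_rfl le_top h4

end GrothLib.ExtConst
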